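import Groth.Prelude.Def_ModSite
import Groth.Agent.Lib.ExtZero.Restr

/-!
# Inverse image of the free modules on objects
-/

set_option linter.style.haveILetI false

universe u

open CategoryTheory Limits Opposite

namespace Groth.Agent.Lib.Pull.FreeOn

variable {C D : Type u} [SmallCategory C] [SmallCategory D] {J : GrothendieckTopology C}
  {K : GrothendieckTopology D} {O_C : Sheaf J CommRingCat.{u}} {O_D : Sheaf K CommRingCat.{u}}
  (f : _root_.ModSite.RMor O_C O_D) (X : D)

/-- Maps out of `f^*` of a free module are sections. -/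
noncomputable def pullFreeOnEquiv (N : _root_.ModSite.Mod O_C) :
    (f.pull.obj (_root_.ModSite.freeOn O_D X) ⟶ N) ≃
      (_root_.ModSite.freeOn O_C (f.fn.obj X) ⟶ N) :=
  ((f.adj.homEquiv _ N).trans (ExtZero.Restr.freeOnEquiv X (f.push.obj N)).toEquiv).trans
    (ExtZero.Restr.freeOnEquiv (f.fn.obj X) N).toEquiv.symm

lemma pullFreeOnEquiv_comp {N N' : _root_.ModSite.Mod O_C}
    (g : f.pull.obj (_root_.ModSite.freeOn O_D X) ⟶ N) (p : N ⟶ N') :
    pullFreeOnEquiv f X N' (g ≫ p) = pullFreeOnEquiv f X N g ≫ p := by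
  apply (ExtZero.Restr.freeOnEquiv (f.fn.obj X) N').injective
  rw [ExtZero.Restr.freeOnEquiv_comp]
  change (ExtZero.Restr.freeOnEquiv (f.fn.obj X) N').toEquiv
      ((ExtZero.Restr.freeOnEquiv (f.fn.obj X) N').toEquiv.symm
        (ExtZero.Restr.freeOnEquiv X _ (f.adj.homEquiv _ N' (g ≫ p)))) =
    p.val.app _ ((ExtZero.Restr.freeOnEquiv (f.fn.obj X) N).toEquiv
      ((ExtZero.Restr.freeOnEquiv (f.fn.obj X) N).toEquiv.symm
        (ExtZero.Restr.freeOnEquiv X _ (f.adj.homEquiv _ N g))))
  rw [Equiv.apply_symm_apply, Equiv.apply_symm_apply, Adjunction.homEquiv_naturality_right,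
    ExtZero.Restr.freeOnEquiv_comp]
  rfl

/-- `f^*` of the free module on `X` is the free module on `fn X`. -/
noncomputable def pullFreeOnIso :
    f.pull.obj (_root_.ModSite.freeOn O_D X) ≅ _root_.ModSite.freeOn O_C (f.fn.obj X) where
  hom := (pullFreeOnEquiv f X _).symm (𝟙 _)
  inv := pullFreeOnEquiv f X _ (𝟙 _)
  hom_inv_id := by
    apply (pullFreeOnEquiv f X _).injective
    rw [pullFreeOnEquiv_comp, Equiv.apply_symm_apply, Category.id_comp]
  inv_hom_id := by
    rw [← pullFreeOnEquiv_comp, Category.id_comp, Equiv.apply_symm_apply]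

end Groth.Agent.Lib.Pull.FreeOn
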